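import Groth.Agent.Lib.QuotLR3.Alg
import Groth.Agent.Lib.UnipFix15.Slice
import Groth.Agent.Lib.Unip23.Primitive

/-!
# The reduction step for Levi subgroups, on Hopf algebras

`A` is an extension of the linearly reductive `H` by the nontrivial unipotent `C`. The primitive
functions of `C` are extended to `A` so that they satisfy a cocycle rule; their zero locus is then
a proper subgroup which still surjects.
-/

set_option autoImplicit false
set_option maxSynthPendingDepth 3
set_option synthInstance.maxHeartbeats 400000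
set_option maxHeartbeats 1000000
universe u

open HopfRep WithConv
open scoped TensorProduct

noncomputable section

namespace Groth.Agent.Levi15

variable {k : Type u} [Field k]

/-- Points with values in `R`. -/
abbrev Pt (A R : Type u) [CommRing A] [HopfAlgebra k A] [CommRing R] [Algebra k R] := WithConv (A →ₐ[k] R)

/-- Pulling points back along a bialgebra map. -/
def pre {A B R : Type u} [CommRing A] [HopfAlgebra k A] [CommRing B] [HopfAlgebra k B] [CommRing R] [Algebra k R]
    (φ : A →ₐc[k] B) : Pt (k := k) B R →* Pt (k := k) A R where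
  toFun v := toConv (v.ofConv.comp (φ : A →ₐ[k] B))
  map_one' := by
    refine congrArg toConv (AlgHom.ext fun a => ?_)
    show algebraMap k R (CoalgebraStruct.counit (φ a)) = algebraMap k R (CoalgebraStruct.counit a)
    rw [CoalgHomClass.counit_comp_apply]
  map_mul' v w := congrArg toConv (AlgHom.convMul_comp_bialgHom_distrib v w φ)

/-- Pushing points forward along an algebra map. -/
def post {A R S : Type u} [CommRing A] [HopfAlgebra k A] [CommRing R] [Algebra k R] [CommRing S] [Algebra k S]
    (h : R →ₐ[k] S) : Pt (k := k) A R →* Pt (k := k) A S where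
  toFun v := toConv (h.comp v.ofConv)
  map_one' := congrArg toConv (AlgHom.ext fun a => h.commutes _)
  map_mul' v w := congrArg toConv (AlgHom.comp_convMul_distrib h v w)

abbrev pair {M N K : Type u} [CommRing M] [Algebra k M] [CommRing N] [Algebra k N] [CommRing K] [Algebra k K]
    (x : M →ₐ[k] K) (g : N →ₐ[k] K) : M ⊗[k] N →ₐ[k] K :=
  Algebra.TensorProduct.lift x g fun _ _ => .all _ _

theorem map_eq_pair {M N M' N' : Type u} [CommRing M] [Algebra k M] [CommRing N] [Algebra k N] [CommRing M']
    [Algebra k M'] [CommRing N'] [Algebra k N'] (f : M →ₐ[k] M') (g : N →ₐ[k] N') (z : M ⊗[k] N) :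
    Algebra.TensorProduct.map f g z =
      pair (Algebra.TensorProduct.includeLeft.comp f) (Algebra.TensorProduct.includeRight.comp g) z := by
  induction z with
  | zero => simp
  | add a b ha hb => simp only [map_add, ha, hb]
  | tmul a b => simp

theorem comp_pair {M N K K' : Type u} [CommRing M] [Algebra k M] [CommRing N] [Algebra k N] [CommRing K]
    [Algebra k K] [CommRing K'] [Algebra k K'] (h : K →ₐ[k] K') (x : M →ₐ[k] K) (g : N →ₐ[k] K) (z : M ⊗[k] N) :
    h (pair x g z) = pair (h.comp x) (h.comp g) z := by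
  induction z with
  | zero => simp
  | add a b ha hb => simp only [map_add, ha, hb]
  | tmul a b => simp

theorem cocycle_alg {S : Type u} [CommRing S] {n : Type} [Fintype n] (fxyz fyz fz : S) (fxy fy fx : n → S)
    (my : n → n → S) (mz : n → S) :
    (fxyz - ∑ i, fxy i * mz i - fz) + ∑ i, (fxy i - ∑ t, fx t * my t i - fy i) * mz i =
      (fxyz - ∑ t, fx t * (∑ i, my t i * mz i) - fyz) + (fyz - ∑ i, fy i * mz i - fz) := by
  simp only [sub_mul, Finset.sum_sub_distrib, Finset.sum_mul, Finset.mul_sum]
  rw [Finset.sum_comm]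
  simp only [mul_assoc]
  ring

section Point

variable {A C : Type u} [CommRing A] [HopfAlgebra k A] [CommRing C] [HopfAlgebra k C]

theorem mul_pre_apply {R : Type u} [CommRing R] [Algebra k R] (r : A →ₐc[k] C) (x : Pt (k := k) A R)
    (v : Pt (k := k) C R) (a : A) : (x * pre r v).ofConv a = pair x.ofConv v.ofConv (QuotLR3.rho r a) := by
  show (x * pre r v) a = _
  rw [AlgHom.convMul_apply, QuotLR3.rho, AlgHom.comp_apply, Bialgebra.comulAlgHom_apply]
  generalize CoalgebraStruct.comul (R := k) a = z
  induction z with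
  | zero => simp
  | add p q hp hq => simp only [map_add, hp, hq]
  | tmul p q => simp [pre]

theorem rho_eq_mul (r : A →ₐc[k] C) (a : A) : QuotLR3.rho r a =
    (toConv (Algebra.TensorProduct.includeLeft : A →ₐ[k] A ⊗[k] C) *
      pre r (toConv (Algebra.TensorProduct.includeRight : C →ₐ[k] A ⊗[k] C))).ofConv a := by
  rw [mul_pre_apply]
  simp only [ofConv_toConv]
  generalize QuotLR3.rho r a = z
  induction z with
  | zero => simp
  | add p q hp hq => simp only [map_add, ← hp, ← hq]
  | tmul p q => simp

theorem prim_mul {R : Type u} [CommRing R] [Algebra k R] {x : C} (hx : x ∈ UnipFix15.prim k C)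
    (u v : Pt (k := k) C R) : (u * v).ofConv x = u.ofConv x + v.ofConv x := by
  show (u * v) x = _
  rw [AlgHom.convMul_apply, UnipFix15.mem_prim.1 hx]
  simp

theorem prim_one {R : Type u} [CommRing R] [Algebra k R] {x : C} (hx : x ∈ UnipFix15.prim k C) :
    (1 : Pt (k := k) C R).ofConv x = 0 := by
  have h := prim_mul hx (1 : Pt (k := k) C R) 1
  rw [_root_.one_mul] at h
  simpa using h

theorem prim_inv {R : Type u} [CommRing R] [Algebra k R] {x : C} (hx : x ∈ UnipFix15.prim k C)
    (u : Pt (k := k) C R) : u⁻¹.ofConv x = -u.ofConv x := by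
  have h := prim_mul hx u⁻¹ u
  rw [inv_mul_cancel, prim_one hx] at h
  exact eq_neg_of_add_eq_zero_left h.symm

variable (r : A →ₐc[k] C) (hr : Function.Surjective r)

include hr in
theorem pre_injective {R : Type u} [CommRing R] [Algebra k R] :
    Function.Injective (pre (R := R) r) := fun v w h => by
  refine congrArg toConv (AlgHom.ext fun c => ?_)
  obtain ⟨a, rfl⟩ := hr c
  exact DFunLike.congr_fun (congrArg ofConv h) a

end Point

/-- An extension of Hopf algebras. -/
structure Ext (A C H : Type u) [CommRing A] [HopfAlgebra k A] [CommRing C] [HopfAlgebra k C]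
    [CommRing H] [HopfAlgebra k H] where
  /-- restriction to the subgroup -/
  r : A →ₐc[k] C
  /-- pullback from the quotient -/
  i : H →ₐc[k] A
  surj : Function.Surjective r
  triv : ∀ h, r (i h) = algebraMap k C (CoalgebraStruct.counit h)
  lift : ∀ (R : Type u) [CommRing R] [Algebra k R] (x : Pt (k := k) A R), pre i x = 1 →
    ∃ v : Pt (k := k) C R, pre r v = x
  flat : RingHom.FaithfullyFlat (i : H →ₐ[k] A).toRingHom

namespace Ext

variable {A C H : Type u} [CommRing A] [HopfAlgebra k A] [CommRing C] [HopfAlgebra k C]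
  [CommRing H] [HopfAlgebra k H] (E : Ext (k := k) A C H)

theorem pre_i_pre_r {R : Type u} [CommRing R] [Algebra k R] (v : Pt (k := k) C R) : pre E.i (pre E.r v) = 1 := by
  refine congrArg toConv (AlgHom.ext fun h => ?_)
  show v.ofConv (E.r (E.i h)) = algebraMap k R (CoalgebraStruct.counit h)
  rw [E.triv, AlgHom.commutes]

theorem rho_i (h : H) : QuotLR3.rho E.r (E.i h) = E.i h ⊗ₜ[k] 1 := by
  rw [rho_eq_mul]
  show (pre E.i (toConv (Algebra.TensorProduct.includeLeft : A →ₐ[k] A ⊗[k] C) *
    pre E.r (toConv (Algebra.TensorProduct.includeRight : C →ₐ[k] A ⊗[k] C)))).ofConv h = _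
  rw [map_mul, pre_i_pre_r, _root_.mul_one]
  rfl

theorem i_injective : Function.Injective E.i := by
  have := E.flat
  exact this.injective

theorem exists_translate_and_invariants :
    (∀ x ∈ UnipFix15.prim k C, ∃ f : A, QuotLR3.rho E.r f = f ⊗ₜ 1 + 1 ⊗ₜ x) ∧
      ∀ a : A, QuotLR3.rho E.r a = a ⊗ₜ 1 → ∃ h, E.i h = a := by
  letI : Algebra H A := (E.i : H →ₐ[k] A).toRingHom.toAlgebra
  haveI : IsScalarTower k H A := .of_algebraMap_eq fun t => ((E.i : H →ₐ[k] A).commutes t).symm
  haveI : Module.FaithfullyFlat H A := E.flat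
  let R2 := A ⊗[H] A
  let p1 : Pt (k := k) A R2 := toConv ((Algebra.TensorProduct.includeLeft : A →ₐ[H] R2).restrictScalars k)
  let p2 : Pt (k := k) A R2 := toConv ((Algebra.TensorProduct.includeRight : A →ₐ[H] R2).restrictScalars k)
  have hp : pre E.i p1 = pre E.i p2 := by
    refine congrArg toConv (AlgHom.ext fun h => ?_)
    show (algebraMap H A h) ⊗ₜ[H] (1 : A) = (1 : A) ⊗ₜ[H] algebraMap H A h
    rw [Algebra.algebraMap_eq_smul_one, TensorProduct.smul_tmul]
  obtain ⟨v, hv⟩ := E.lift R2 (p1⁻¹ * p2) (by rw [map_mul, map_inv, hp, inv_mul_cancel])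
  let ρH : A →ₐ[H] A ⊗[k] C := { QuotLR3.rho E.r with commutes' := fun h => E.rho_i h }
  let iL : A →ₐ[H] A ⊗[k] C := Algebra.TensorProduct.includeLeft
  refine ⟨fun x hx => ?_, fun a ha => ?_⟩
  · let R3 := R2 ⊗[k] C
    let q : A →ₐ[H] R3 := (Algebra.TensorProduct.map (Algebra.TensorProduct.includeRight : A →ₐ[H] R2)
      (AlgHom.id k C)).comp ρH
    let TH : R2 →ₐ[H] R3 := Algebra.TensorProduct.lift
      ((Algebra.TensorProduct.includeLeft : R2 →ₐ[H] R3).comp Algebra.TensorProduct.includeLeft) q
      fun _ _ => .all _ _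
    let T : R2 →ₐ[k] R3 := TH.restrictScalars k
    let eL : R2 →ₐ[k] R3 := Algebra.TensorProduct.includeLeft
    let eR : Pt (k := k) C R3 := toConv Algebra.TensorProduct.includeRight
    have h1 : post T p1 = post eL p1 := congrArg toConv (AlgHom.ext fun a => by
      show TH (a ⊗ₜ[H] (1 : A)) = eL (a ⊗ₜ[H] (1 : A))
      refine (Algebra.TensorProduct.lift_tmul _ _ _ _ _).trans ?_
      rw [map_one, _root_.mul_one]
      rfl)
    have h2 : post T p2 = post eL p2 * pre E.r eR := congrArg toConv (AlgHom.ext fun a => by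
      show T (p2.ofConv a) = (post eL p2 * pre E.r eR).ofConv a
      rw [mul_pre_apply]
      show TH ((1 : A) ⊗ₜ[H] a) = _
      refine (Algebra.TensorProduct.lift_tmul _ _ _ _ _).trans ?_
      rw [map_one, _root_.one_mul]
      show Algebra.TensorProduct.map (Algebra.TensorProduct.includeRight : A →ₐ[H] R2) (AlgHom.id k C)
        (QuotLR3.rho E.r a) = _
      generalize QuotLR3.rho E.r a = z
      induction z with
      | zero => simp
      | add p q hp hq => simp only [map_add, hp, hq]
      | tmul p q =>
        show ((1 : A) ⊗ₜ[H] p) ⊗ₜ[k] q = (((1 : A) ⊗ₜ[H] p) ⊗ₜ[k] (1 : C)) * ((1 : R2) ⊗ₜ[k] q)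
        rw [Algebra.TensorProduct.tmul_mul_tmul, _root_.mul_one, _root_.one_mul])
    have h3 : pre E.r (post T v) = pre E.r (post eL v * eR) := by
      have e : pre E.r (post T v) = post T (pre E.r v) := rfl
      have e' : pre E.r (post eL v) = post eL (pre E.r v) := rfl
      rw [e, map_mul (pre E.r), e', hv, map_mul, map_inv, h1, h2, map_mul, map_inv, mul_assoc]
    let z := v.ofConv x
    have hz : T z = eL z + eR.ofConv x := by
      have := DFunLike.congr_fun (congrArg ofConv (pre_injective E.r E.surj h3)) x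
      rw [prim_mul hx] at this
      exact this
    let δ : A →ₗ[H] A ⊗[k] C := ρH.toLinearMap - iL.toLinearMap
    have key : ∀ w : R2, δ.lTensor A w = Algebra.TensorProduct.assoc k H H A A C (T w - eL w) := by
      intro w
      induction w using TensorProduct.induction_on with
      | zero => simp
      | add p q hp hq => simp only [map_add, map_sub, hp, hq]; abel
      | tmul p q =>
        simp only [δ, LinearMap.lTensor_tmul, LinearMap.sub_apply, TensorProduct.tmul_sub, map_sub]
        congr 1
        · show p ⊗ₜ[H] QuotLR3.rho E.r q = Algebra.TensorProduct.assoc k H H A A C (TH (p ⊗ₜ[H] q))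
          refine Eq.trans ?_ (congrArg (Algebra.TensorProduct.assoc k H H A A C)
            (Algebra.TensorProduct.lift_tmul _ _ _ p q).symm)
          show _ = Algebra.TensorProduct.assoc k H H A A C (((p ⊗ₜ[H] (1 : A)) ⊗ₜ[k] (1 : C)) *
            Algebra.TensorProduct.map (Algebra.TensorProduct.includeRight : A →ₐ[H] R2) (AlgHom.id k C)
              (QuotLR3.rho E.r q))
          generalize QuotLR3.rho E.r q = w
          induction w with
          | zero => simp
          | add a b ha hb => simp only [map_add, mul_add, TensorProduct.tmul_add, ha, hb]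
          | tmul a b => simp
    have h4 : δ.lTensor A z = (1 : A) ⊗ₜ[H] ((1 : A) ⊗ₜ[k] x) := by
      rw [key, hz, add_sub_cancel_left]
      show Algebra.TensorProduct.assoc k H H A A C (((1 : A) ⊗ₜ[H] (1 : A)) ⊗ₜ[k] x) = _
      rfl
    have h5 : (LinearMap.range δ).mkQ.lTensor A ((1 : A) ⊗ₜ[H] ((1 : A) ⊗ₜ[k] x)) = 0 := by
      rw [← h4, ← LinearMap.lTensor_comp_apply, LinearMap.range_mkQ_comp, LinearMap.lTensor_zero,
        LinearMap.zero_apply]
    rw [LinearMap.lTensor_tmul] at h5
    have h6 := Module.FaithfullyFlat.tensorProduct_mk_injective (A := H) (B := A) _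
      (h5.trans (TensorProduct.tmul_zero _ _).symm)
    obtain ⟨f, hf⟩ := (Submodule.Quotient.mk_eq_zero _).1 h6
    exact ⟨f, by rw [← hf]; simp [δ, ρH, iL]⟩
  · let θ : A ⊗[k] C →ₐ[k] R2 := pair p1.ofConv v.ofConv
    have hθ : θ (QuotLR3.rho E.r a) = p2.ofConv a := by
      rw [← mul_pre_apply, hv, mul_inv_cancel_left]
    have h0 : (1 : A) ⊗ₜ[H] a = a ⊗ₜ[H] (1 : A) := by
      rw [ha] at hθ
      simpa [θ, p1, p2] using hθ.symm
    have h7 := congrArg ((LinearMap.range (Algebra.linearMap H A)).mkQ.lTensor A) h0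
    have h8 : (LinearMap.range (Algebra.linearMap H A)).mkQ (1 : A) = 0 :=
      (Submodule.Quotient.mk_eq_zero _).2 ⟨1, map_one (algebraMap H A)⟩
    rw [LinearMap.lTensor_tmul, LinearMap.lTensor_tmul, h8, TensorProduct.tmul_zero] at h7
    have h9 := Module.FaithfullyFlat.tensorProduct_mk_injective (A := H) (B := A) _
      (h7.trans (TensorProduct.tmul_zero _ _).symm)
    exact (Submodule.Quotient.mk_eq_zero _).1 h9

/-- **The step.** A proper closed subgroup that still surjects onto the quotient. -/
theorem exists_smaller [CharZero k] [Algebra.FiniteType k C] (hC : IsUnipotent k C)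
    (hne : ¬ ∀ c : C, c ∈ Submodule.span k {(1 : C)}) (l : H →ₗ[k] k) (hl1 : l 1 = 1)
    (hl : ∀ y, TensorProduct.lid k H (l.rTensor H (CoalgebraStruct.comul (R := k) y)) = algebraMap k H (l y)) :
    ∃ J : Ideal A, J ≠ ⊥ ∧
      (∀ (R : Type u) [CommRing R] [Algebra k R], J ≤ RingHom.ker (1 : Pt (k := k) A R).ofConv.toRingHom) ∧
      (∀ (R : Type u) [CommRing R] [Algebra k R] (x y : Pt (k := k) A R), J ≤ RingHom.ker x.ofConv.toRingHom →
        J ≤ RingHom.ker y.ofConv.toRingHom → J ≤ RingHom.ker (x * y).ofConv.toRingHom) ∧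
      (∀ (R : Type u) [CommRing R] [Algebra k R] (x : Pt (k := k) A R), J ≤ RingHom.ker x.ofConv.toRingHom →
        J ≤ RingHom.ker x⁻¹.ofConv.toRingHom) ∧
      ∀ (K : Type u) [Field K] [Algebra k K] [IsAlgClosed K] (y : Pt (k := k) A K),
        ∃ x : Pt (k := k) A K, J ≤ RingHom.ker x.ofConv.toRingHom ∧ pre E.i x = pre E.i y := by
  haveI := UnipFix15.finite_prim hC
  obtain ⟨htr, hinv⟩ := E.exists_translate_and_invariants
  let P := UnipFix15.prim k C
  let bs := Module.finBasis k P
  let n := Fin (Module.finrank k P)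
  let b : n → C := fun j => (bs j : C)
  have hb : ∀ j, b j ∈ P := fun j => (bs j).2
  -- translation functions
  choose f₀ hf₀ using fun j => htr (b j) (hb j)
  let f : n → A := fun j => f₀ j - algebraMap k A (CoalgebraStruct.counit (f₀ j))
  have hf : ∀ j, QuotLR3.rho E.r (f j) = f j ⊗ₜ 1 + 1 ⊗ₜ b j := by
    intro j
    simp only [f, map_sub, hf₀, AlgHom.commutes, TensorProduct.sub_tmul, Algebra.TensorProduct.algebraMap_apply]
    abel
  have hfv : ∀ {R : Type u} [CommRing R] [Algebra k R] (x : Pt (k := k) A R) (v : Pt (k := k) C R) (j : n),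
      (x * pre E.r v).ofConv (f j) = x.ofConv (f j) + v.ofConv (b j) := by
    intro R _ _ x v j
    rw [mul_pre_apply, hf]
    simp
  have hf1 : ∀ {R : Type u} [CommRing R] [Algebra k R] (j : n), (1 : Pt (k := k) A R).ofConv (f j) = 0 := by
    intro R _ _ j
    show algebraMap k R (CoalgebraStruct.counit (f j)) = 0
    simp [f, Bialgebra.counit_algebraMap]
  have hfr : ∀ {R : Type u} [CommRing R] [Algebra k R] (v : Pt (k := k) C R) (j : n),
      (pre E.r v).ofConv (f j) = v.ofConv (b j) := by
    intro R _ _ v j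
    rw [← _root_.one_mul (pre E.r v), hfv, hf1, zero_add]
  -- conjugation
  let R0 := C ⊗[k] A
  let u0 : Pt (k := k) C R0 := toConv Algebra.TensorProduct.includeLeft
  let y0 : Pt (k := k) A R0 := toConv Algebra.TensorProduct.includeRight
  obtain ⟨v0, hv0⟩ := E.lift R0 (y0⁻¹ * pre E.r u0 * y0) (by
    rw [map_mul, map_mul, map_inv, pre_i_pre_r, _root_.mul_one, inv_mul_cancel])
  let cj : ∀ {R : Type u} [CommRing R] [Algebra k R], Pt (k := k) C R → Pt (k := k) A R → Pt (k := k) C R :=
    fun u y => post (pair u.ofConv y.ofConv) v0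
  have hcj : ∀ {R : Type u} [CommRing R] [Algebra k R] (u : Pt (k := k) C R) (y : Pt (k := k) A R),
      pre E.r (cj u y) = y⁻¹ * pre E.r u * y := by
    intro R _ _ u y
    show post (pair u.ofConv y.ofConv) (pre E.r v0) = _
    have e1 : post (pair u.ofConv y.ofConv) u0 = u := congrArg toConv (AlgHom.ext fun c => by simp [u0])
    have e2 : post (pair u.ofConv y.ofConv) y0 = y := congrArg toConv (AlgHom.ext fun c => by simp [y0])
    rw [hv0, map_mul, map_mul, map_inv, e2]
    congr 2
    exact congrArg (pre E.r) e1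
  have hinj := fun {R : Type u} [CommRing R] [Algebra k R] => pre_injective (R := R) E.r E.surj
  let g : n → R0 := fun j => v0.ofConv (b j)
  have hF : ∀ {R : Type u} [CommRing R] [Algebra k R] (u : Pt (k := k) C R) (y : Pt (k := k) A R) (j : n),
      pair u.ofConv y.ofConv (g j) = (cj u y).ofConv (b j) := fun u y j => rfl
  -- the matrix
  let D : C →ₗ[k] C ⊗[k] C := CoalgebraStruct.comul -
    (Algebra.TensorProduct.includeLeft : C →ₐ[k] C ⊗[k] C).toLinearMap -
    (Algebra.TensorProduct.includeRight : C →ₐ[k] C ⊗[k] C).toLinearMap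
  have hD : LinearMap.ker D = P := by
    ext c
    simp [D, P, UnipFix15.mem_prim, sub_eq_zero, sub_sub]
  have hgP : ∀ j, ∃ g' : P ⊗[k] A, P.subtype.rTensor A g' = g j := by
    intro j
    have hex : Function.Exact P.subtype D := by
      rw [LinearMap.exact_iff, Submodule.range_subtype, hD]
    refine (Module.Flat.rTensor_exact A hex (g j)).1 ?_
    let R' := (C ⊗[k] C) ⊗[k] A
    let e : C ⊗[k] C →ₐ[k] R' := Algebra.TensorProduct.includeLeft
    let u₁ : Pt (k := k) C R' := post e (toConv Algebra.TensorProduct.includeLeft)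
    let u₂ : Pt (k := k) C R' := post e (toConv Algebra.TensorProduct.includeRight)
    let y : Pt (k := k) A R' := toConv Algebra.TensorProduct.includeRight
    have hΔ : post e (toConv (Bialgebra.comulAlgHom k C)) = u₁ * u₂ := by
      rw [← map_mul]
      congr 1
      refine congrArg toConv (AlgHom.ext fun c => ?_)
      show CoalgebraStruct.comul (R := k) c = ((toConv (Algebra.TensorProduct.includeLeft : C →ₐ[k] C ⊗[k] C)) *
        toConv (Algebra.TensorProduct.includeRight : C →ₐ[k] C ⊗[k] C)) c
      rw [AlgHom.convMul_apply, ofConv_toConv, ofConv_toConv]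
      generalize CoalgebraStruct.comul (R := k) c = w
      induction w with
      | zero => simp
      | add p q hp hq => simp only [map_add, ← hp, ← hq]
      | tmul p q => simp
    have hadd : (cj (u₁ * u₂) y).ofConv (b j) = (cj u₁ y).ofConv (b j) + (cj u₂ y).ofConv (b j) := by
      rw [← prim_mul (hb j)]
      congr 2
      refine hinj ?_
      rw [map_mul (pre E.r) (cj u₁ y), hcj, hcj, hcj, map_mul]
      group
    have hm : ∀ φ : C →ₐ[k] C ⊗[k] C, φ.toLinearMap.rTensor A (g j) =
        (cj (post e (toConv φ)) y).ofConv (b j) := by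
      intro φ
      rw [← hF, show φ.toLinearMap.rTensor A (g j) = Algebra.TensorProduct.map φ (AlgHom.id k A) (g j) from rfl,
        map_eq_pair]
      rfl
    have hD' : D.rTensor A (g j) = (Bialgebra.comulAlgHom k C).toLinearMap.rTensor A (g j) -
        (Algebra.TensorProduct.includeLeft : C →ₐ[k] C ⊗[k] C).toLinearMap.rTensor A (g j) -
        (Algebra.TensorProduct.includeRight : C →ₐ[k] C ⊗[k] C).toLinearMap.rTensor A (g j) := by
      simp only [D, LinearMap.rTensor_sub, LinearMap.sub_apply]
      rfl
    rw [hD', hm, hm, hm, hΔ, sub_sub, sub_eq_zero]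
    exact hadd
  choose g' hg' using hgP
  let m : n → n → A := fun i j => TensorProduct.lid k A ((bs.coord i).rTensor A (g' j))
  have hexp : ∀ (z : P ⊗[k] A), z = ∑ i, bs i ⊗ₜ[k] TensorProduct.lid k A ((bs.coord i).rTensor A z) := by
    intro z
    induction z with
    | zero => simp
    | add p q hp hq => simp only [map_add, TensorProduct.tmul_add, Finset.sum_add_distrib, ← hp, ← hq]
    | tmul p q =>
      simp only [LinearMap.rTensor_tmul, TensorProduct.lid_tmul, TensorProduct.tmul_smul, ← TensorProduct.smul_tmul',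
        ← TensorProduct.sum_tmul, Module.Basis.coord_apply]
      simp only [TensorProduct.smul_tmul', ← TensorProduct.sum_tmul, bs.sum_repr]
  have hFm : ∀ {R : Type u} [CommRing R] [Algebra k R] (u : Pt (k := k) C R) (y : Pt (k := k) A R) (j : n),
      (cj u y).ofConv (b j) = ∑ i, u.ofConv (b i) * y.ofConv (m i j) := by
    intro R _ _ u y j
    rw [← hF, ← hg' j]
    conv_lhs => rw [hexp (g' j)]
    simp [map_sum, b, m]
    rfl
  have hli : ∀ {R : Type u} [CommRing R] [Algebra k R] (X Y : n → R),
      (∀ (S : Type u) [CommRing S] [Algebra k S] (u : Pt (k := k) C S) (h : R →ₐ[k] S),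
        ∑ i, u.ofConv (b i) * h (X i) = ∑ i, u.ofConv (b i) * h (Y i)) → X = Y := by
    intro R _ _ X Y h
    have h1 := h (C ⊗[k] R) (toConv Algebra.TensorProduct.includeLeft) Algebra.TensorProduct.includeRight
    simp only [ofConv_toConv, Algebra.TensorProduct.includeLeft_apply, Algebra.TensorProduct.includeRight_apply,
      Algebra.TensorProduct.tmul_mul_tmul, _root_.mul_one, _root_.one_mul] at h1
    have h2 : ∑ i, bs i ⊗ₜ[k] X i = ∑ i, bs i ⊗ₜ[k] Y i :=
      Module.Flat.rTensor_preserves_injective_linearMap (M := R) P.subtype P.injective_subtype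
        (by simpa [map_sum] using h1)
    funext i
    have h3 := congrArg (fun z => TensorProduct.lid k R ((bs.coord i).rTensor R z)) h2
    simpa [map_sum, Finsupp.single_apply, ite_smul, Finset.sum_ite_eq'] using h3
  have hpostcj : ∀ {R S : Type u} [CommRing R] [Algebra k R] [CommRing S] [Algebra k S] (h : R →ₐ[k] S)
      (y : Pt (k := k) A R) (i j : n), h (y.ofConv (m i j)) = (post h y).ofConv (m i j) := fun h y i j => rfl
  have hm1 : ∀ {R : Type u} [CommRing R] [Algebra k R] (i j : n),
      (1 : Pt (k := k) A R).ofConv (m i j) = if i = j then 1 else 0 := by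
    intro R _ _ i j
    refine congrFun (hli (fun i => (1 : Pt (k := k) A R).ofConv (m i j)) (fun i => if i = j then 1 else 0)
      fun S _ _ u h => ?_) i
    simp only [hpostcj, map_one, ← hFm]
    have : cj u 1 = u := hinj (by rw [hcj, inv_one, _root_.one_mul, _root_.mul_one])
    rw [this]
    simp only [apply_ite h, map_one, map_zero, mul_ite, _root_.mul_one, mul_zero, Finset.sum_ite_eq', Finset.mem_univ,
      if_true]
  have hmmul : ∀ {R : Type u} [CommRing R] [Algebra k R] (y z : Pt (k := k) A R) (i j : n),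
      (y * z).ofConv (m i j) = ∑ t, y.ofConv (m i t) * z.ofConv (m t j) := by
    intro R _ _ y z i j
    refine congrFun (hli (fun i => (y * z).ofConv (m i j))
      (fun i => ∑ t, y.ofConv (m i t) * z.ofConv (m t j)) fun S _ _ u h => ?_) i
    simp only [hpostcj, map_mul, ← hFm, map_sum, Finset.mul_sum]
    have : cj u (post h y * post h z) = cj (cj u (post h y)) (post h z) := hinj (by
      rw [hcj, hcj, hcj]; group)
    rw [this, hFm, Finset.sum_comm]
    refine Finset.sum_congr rfl fun t _ => ?_
    rw [hFm, Finset.sum_mul]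
    exact Finset.sum_congr rfl fun i _ => by ring
  have hminv : ∀ {R : Type u} [CommRing R] [Algebra k R] (y : Pt (k := k) A R) (v : Pt (k := k) C R) (i j : n),
      (y * pre E.r v).ofConv (m i j) = y.ofConv (m i j) := by
    intro R _ _ y v i j
    refine congrFun (hli (fun i => (y * pre E.r v).ofConv (m i j)) (fun i => y.ofConv (m i j))
      fun S _ _ u h => ?_) i
    simp only [hpostcj, map_mul, ← hFm]
    have e : post h (pre E.r v) = pre E.r (post h v) := rfl
    have : cj u (post h y * pre E.r (post h v)) = (post h v)⁻¹ * cj u (post h y) * post h v := hinj (by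
      rw [map_mul, map_mul, map_inv, hcj, hcj]; group)
    rw [e, this, prim_mul (hb j), prim_mul (hb j), prim_inv (hb j)]
    ring
  have hmr : ∀ {R : Type u} [CommRing R] [Algebra k R] (v : Pt (k := k) C R) (i j : n),
      (pre E.r v).ofConv (m i j) = if i = j then 1 else 0 := by
    intro R _ _ v i j
    rw [← _root_.one_mul (pre E.r v), hminv, hm1]
  -- the cocycle
  let cst : n → A ⊗[k] A := fun j =>
    (toConv (Algebra.TensorProduct.includeLeft : A →ₐ[k] A ⊗[k] A) *
        toConv (Algebra.TensorProduct.includeRight : A →ₐ[k] A ⊗[k] A)).ofConv (f j) -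
      ∑ i, (f i ⊗ₜ[k] (1 : A)) * ((1 : A) ⊗ₜ[k] m i j) - (1 : A) ⊗ₜ[k] f j
  have hcst : ∀ {R : Type u} [CommRing R] [Algebra k R] (x y : Pt (k := k) A R) (j : n),
      pair x.ofConv y.ofConv (cst j) =
        (x * y).ofConv (f j) - ∑ i, x.ofConv (f i) * y.ofConv (m i j) - y.ofConv (f j) := by
    intro R _ _ x y j
    have e1 : post (pair x.ofConv y.ofConv) (toConv (Algebra.TensorProduct.includeLeft : A →ₐ[k] A ⊗[k] A)) = x :=
      congrArg toConv (AlgHom.ext fun a => by simp)
    have e2 : post (pair x.ofConv y.ofConv) (toConv (Algebra.TensorProduct.includeRight : A →ₐ[k] A ⊗[k] A)) = y :=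
      congrArg toConv (AlgHom.ext fun a => by simp)
    have e3 : post (pair x.ofConv y.ofConv) (toConv (Algebra.TensorProduct.includeLeft : A →ₐ[k] A ⊗[k] A) *
        toConv (Algebra.TensorProduct.includeRight : A →ₐ[k] A ⊗[k] A)) = x * y := by rw [map_mul, e1, e2]
    simp only [cst, map_sub, map_sum]
    rw [← e3]
    refine congrArg₂ (· - ·) (congrArg₂ (· - ·) rfl (Finset.sum_congr rfl fun i _ => ?_)) ?_ <;> simp
  have hc' : ∀ j, ∃ c' : H ⊗[k] A, (E.i : H →ₐ[k] A).toLinearMap.rTensor A c' = cst j := by
    intro j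
    let δ : A →ₗ[k] A ⊗[k] C := (QuotLR3.rho E.r).toLinearMap -
      (Algebra.TensorProduct.includeLeft : A →ₐ[k] A ⊗[k] C).toLinearMap
    have hex : Function.Exact (E.i : H →ₐ[k] A).toLinearMap δ := by
      intro a
      constructor
      · intro h
        exact hinv a (sub_eq_zero.1 h)
      · rintro ⟨h, rfl⟩
        exact sub_eq_zero.2 (E.rho_i h)
    refine (Module.Flat.rTensor_exact A hex (cst j)).1 ?_
    let R' := (A ⊗[k] C) ⊗[k] A
    let e : A ⊗[k] C →ₐ[k] R' := Algebra.TensorProduct.includeLeft
    let x : Pt (k := k) A R' := post e (toConv Algebra.TensorProduct.includeLeft)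
    let v : Pt (k := k) C R' := post e (toConv Algebra.TensorProduct.includeRight)
    let y : Pt (k := k) A R' := toConv Algebra.TensorProduct.includeRight
    have hm : ∀ φ : A →ₐ[k] A ⊗[k] C, φ.toLinearMap.rTensor A (cst j) =
        pair (post e (toConv φ)).ofConv y.ofConv (cst j) := by
      intro φ
      rw [show φ.toLinearMap.rTensor A (cst j) = Algebra.TensorProduct.map φ (AlgHom.id k A) (cst j) from rfl,
        map_eq_pair]
      rfl
    have hρ : post e (toConv (QuotLR3.rho E.r)) = x * pre E.r v := by
      have : toConv (QuotLR3.rho E.r) = toConv (Algebra.TensorProduct.includeLeft : A →ₐ[k] A ⊗[k] C) *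
          pre E.r (toConv Algebra.TensorProduct.includeRight) := congrArg toConv (AlgHom.ext fun a => rho_eq_mul E.r a)
      rw [this, map_mul]
      rfl
    simp only [δ, LinearMap.rTensor_sub, LinearMap.sub_apply]
    rw [hm, hm, hρ, sub_eq_zero]
    show pair (x * pre E.r v).ofConv y.ofConv (cst j) = pair x.ofConv y.ofConv (cst j)
    rw [hcst, hcst, show x * pre E.r v * y = x * y * pre E.r (cj v y) by rw [hcj]; group, hfv, hFm]
    simp only [hfv, add_mul, Finset.sum_add_distrib]
    ring
  choose c' hc'' using hc'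
  have hpre : ∀ {R : Type u} [CommRing R] [Algebra k R] (x y : Pt (k := k) A R) (j : n),
      pair x.ofConv y.ofConv (cst j) = pair (pre E.i x).ofConv y.ofConv (c' j) := by
    intro R _ _ x y j
    rw [← hc'' j]
    generalize c' j = z
    induction z with
    | zero => simp
    | add p q hp hq => simp only [map_add, hp, hq]
    | tmul p q => simp [pre]
  -- integrate
  let Lk : H ⊗[k] A →ₗ[k] A := (TensorProduct.lid k A).toLinearMap ∘ₗ l.rTensor A
  let φ : n → A := fun j => Lk (c' j)
  let f' : n → A := fun j => f j + φ j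
  have hf' : ∀ {R : Type u} [CommRing R] [Algebra k R] (y z : Pt (k := k) A R) (j : n),
      (y * z).ofConv (f' j) = (∑ i, y.ofConv (f' i) * z.ofConv (m i j)) + z.ofConv (f' j) := by
    intro R _ _ y z j
    let HR := H ⊗[k] R
    let iR : R →ₐ[k] HR := Algebra.TensorProduct.includeRight
    let h₀ : Pt (k := k) H HR := toConv Algebra.TensorProduct.includeLeft
    let L : HR →ₗ[k] R := (TensorProduct.lid k R).toLinearMap ∘ₗ l.rTensor R
    have hLmul : ∀ (w : HR) (t : R), L (w * iR t) = L w * t := by
      intro w t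
      induction w using TensorProduct.induction_on with
      | zero => simp
      | add p q hp hq => simp only [add_mul, map_add, hp, hq]
      | tmul p q =>
        show TensorProduct.lid k R (l.rTensor R ((p ⊗ₜ[k] q) * ((1 : H) ⊗ₜ[k] t))) =
          TensorProduct.lid k R (l.rTensor R (p ⊗ₜ[k] q)) * t
        simp
    have hLone : ∀ t : R, L (iR t) = t := fun t => by
      show TensorProduct.lid k R (l.rTensor R ((1 : H) ⊗ₜ[k] t)) = t
      simp [hl1]
    have hLh : ∀ (η : Pt (k := k) H R) (h : H), L ((h₀ * post iR η).ofConv h) = algebraMap k R (l h) := by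
      intro η h
      show L ((h₀ * post iR η) h) = _
      rw [AlgHom.convMul_apply, ← η.ofConv.commutes, ← hl h]
      generalize CoalgebraStruct.comul (R := k) h = w
      induction w with
      | zero => simp
      | add p q hp hq => simp only [map_add, hp, hq]
      | tmul p q =>
        simp only [Algebra.TensorProduct.lift_tmul, LinearMap.rTensor_tmul, TensorProduct.lid_tmul, map_smul]
        show TensorProduct.lid k R (l.rTensor R ((p ⊗ₜ[k] (1 : R)) * ((1 : H) ⊗ₜ[k] η.ofConv q))) = _
        simp
    have hLc : ∀ (η : Pt (k := k) H R) (w : Pt (k := k) A R) (j : n),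
        L (pair (h₀ * post iR η).ofConv (post iR w).ofConv (c' j)) = w.ofConv (φ j) := by
      intro η w j
      simp only [φ]
      generalize c' j = s
      induction s with
      | zero => simp
      | add p q hp hq => simp only [map_add, hp, hq]
      | tmul p q =>
        simp only [Algebra.TensorProduct.lift_tmul]
        show L ((h₀ * post iR η).ofConv p * iR (w.ofConv q)) = _
        rw [hLmul, hLh, ← Algebra.smul_def]
        simp [Lk]
    have hLc0 : ∀ (w : Pt (k := k) A R) (j : n),
        L (pair h₀.ofConv (post iR w).ofConv (c' j)) = w.ofConv (φ j) := fun w j => by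
      have := hLc 1 w j
      rwa [map_one, _root_.mul_one] at this
    -- the identity before integration
    have hid : pair (h₀ * post iR (pre E.i y)).ofConv (post iR z).ofConv (c' j) +
          ∑ i, pair h₀.ofConv (post iR y).ofConv (c' i) * iR (z.ofConv (m i j)) =
        pair h₀.ofConv (post iR (y * z)).ofConv (c' j) + iR (pair y.ofConv z.ofConv (cst j)) := by
      let AR := A ⊗[k] R
      let Φ : HR →ₐ[k] AR := Algebra.TensorProduct.map (E.i : H →ₐ[k] A) (AlgHom.id k R)
      have hΦ : Function.Injective Φ :=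
        Module.Flat.rTensor_preserves_injective_linearMap (M := R) (E.i : H →ₐ[k] A).toLinearMap E.i_injective
      let x : Pt (k := k) A AR := toConv Algebra.TensorProduct.includeLeft
      let jR : R →ₐ[k] AR := Algebra.TensorProduct.includeRight
      have hR : ∀ t, Φ (iR t) = jR t := fun t => by
        show Algebra.TensorProduct.map (E.i : H →ₐ[k] A) (AlgHom.id k R) ((1 : H) ⊗ₜ[k] t) = (1 : A) ⊗ₜ[k] t
        simp
      have h0 : post Φ h₀ = pre E.i x := congrArg toConv (AlgHom.ext fun h => by
        show Algebra.TensorProduct.map (E.i : H →ₐ[k] A) (AlgHom.id k R) (h ⊗ₜ[k] (1 : R)) = E.i h ⊗ₜ[k] (1 : R)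
        simp)
      have hw : ∀ w : Pt (k := k) A R, post Φ (post iR w) = post jR w := fun w =>
        congrArg toConv (AlgHom.ext fun h => hR _)
      have hη : post Φ (h₀ * post iR (pre E.i y)) = pre E.i (x * post jR y) := by
        rw [map_mul, map_mul, h0]
        congr 1
        exact congrArg toConv (AlgHom.ext fun h => hR _)
      have hp1 : ∀ (η : Pt (k := k) H HR) (w : Pt (k := k) A R) (i : n),
          Φ (pair η.ofConv (post iR w).ofConv (c' i)) = pair (post Φ η).ofConv (post jR w).ofConv (c' i) := by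
        intro η w i
        rw [comp_pair, ← hw]
        rfl
      refine hΦ ?_
      simp only [map_add, map_sum, map_mul Φ, hp1, hR, hη, h0]
      rw [← hpre, ← hpre, comp_pair]
      rw [map_mul (post jR) y z]
      show _ + ∑ i, pair (pre E.i x).ofConv (post jR y).ofConv (c' i) * _ = _ +
        pair (post jR y).ofConv (post jR z).ofConv (cst j)
      simp only [← hpre]
      show _ + ∑ i, pair x.ofConv (post jR y).ofConv (cst i) * (post jR z).ofConv (m i j) = _
      simp only [hcst, mul_assoc, hmmul]
      exact cocycle_alg _ _ _ _ _ (fun i => x.ofConv (f i)) (fun t i => (post jR y).ofConv (m t i))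
        (fun i => (post jR z).ofConv (m i j))
    have h := congrArg L hid
    simp only [map_add, map_sum, hLc, hLmul, hLc0, hLone] at h
    rw [hcst] at h
    simp only [f', map_add, add_mul, Finset.sum_add_distrib]
    linear_combination -h
  have hφr : ∀ {R : Type u} [CommRing R] [Algebra k R] (v : Pt (k := k) C R) (j : n),
      (pre E.r v).ofConv (φ j) = 0 := by
    intro R _ _ v j
    let Φ : H ⊗[k] R →ₐ[k] A ⊗[k] R := Algebra.TensorProduct.map (E.i : H →ₐ[k] A) (AlgHom.id k R)
    have hΦ : Function.Injective Φ :=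
      Module.Flat.rTensor_preserves_injective_linearMap (M := R) (E.i : H →ₐ[k] A).toLinearMap E.i_injective
    let x : Pt (k := k) A (A ⊗[k] R) := toConv Algebra.TensorProduct.includeLeft
    let jR : R →ₐ[k] A ⊗[k] R := Algebra.TensorProduct.includeRight
    have h0 : pair x.ofConv (post jR (pre E.r v)).ofConv (cst j) = 0 := by
      have e : post jR (pre E.r v) = pre E.r (post jR v) := rfl
      rw [e, hcst, hfv, hfr]
      simp only [hmr, mul_ite, _root_.mul_one, mul_zero]
      rw [(Finset.sum_eq_single j (fun b _ hb => if_neg hb)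
        (fun h => absurd (Finset.mem_univ j) h)).trans (if_pos rfl)]
      ring
    let w : Pt (k := k) A R := pre E.r v
    let M : H ⊗[k] A →ₐ[k] H ⊗[k] R := Algebra.TensorProduct.map (AlgHom.id k H) w.ofConv
    have e1 : ∀ s, Φ (M s) = pair (pre E.i x).ofConv (post jR w).ofConv s := by
      intro s
      induction s using TensorProduct.induction_on with
      | zero => simp only [map_zero]
      | add p q hp hq => simp only [map_add, hp, hq]
      | tmul p q =>
        show E.i p ⊗ₜ[k] w.ofConv q = (E.i p ⊗ₜ[k] (1 : R)) * ((1 : A) ⊗ₜ[k] w.ofConv q)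
        rw [Algebra.TensorProduct.tmul_mul_tmul, _root_.mul_one, _root_.one_mul]
    have h1 : M (c' j) = 0 := hΦ (((e1 (c' j)).trans ((hpre x (post jR w) j).symm.trans h0)).trans (map_zero Φ).symm)
    have e2 : ∀ s, w.ofConv (Lk s) = TensorProduct.lid k R (l.rTensor R (M s)) := by
      intro s
      induction s using TensorProduct.induction_on with
      | zero => simp only [map_zero]
      | add p q hp hq => simp only [map_add, hp, hq]
      | tmul p q =>
        show w.ofConv (l p • q) = l p • w.ofConv q
        exact map_smul _ _ _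
    refine (e2 (c' j)).trans ?_
    rw [h1, LinearMap.map_zero, LinearEquiv.map_zero]
  have hf'r : ∀ {R : Type u} [CommRing R] [Algebra k R] (v : Pt (k := k) C R) (j : n),
      (pre E.r v).ofConv (f' j) = v.ofConv (b j) := by
    intro R _ _ v j
    simp only [f', map_add, hfr, hφr, add_zero]
  have hf'1 : ∀ {R : Type u} [CommRing R] [Algebra k R] (j : n), (1 : Pt (k := k) A R).ofConv (f' j) = 0 := by
    intro R _ _ j
    rw [← map_one (pre (R := R) E.r), hf'r, prim_one (hb j)]
  have hker : ∀ {R : Type u} [CommRing R] [Algebra k R] (x : Pt (k := k) A R),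
      Ideal.span (Set.range f') ≤ RingHom.ker x.ofConv.toRingHom ↔ ∀ j, x.ofConv (f' j) = 0 := by
    intro R _ _ x
    rw [Ideal.span_le, Set.range_subset_iff]
    rfl
  refine ⟨Ideal.span (Set.range f'), ?_, ?_, ?_, ?_, ?_⟩
  · intro hbot
    obtain ⟨x, hx0, hx⟩ := Unip23.exists_prim_ne_zero hC hne
    refine hx0 ?_
    have hb0 : ∀ j, b j = 0 := fun j => by
      have e : f' j = 0 := (Submodule.mem_bot A).1 (hbot ▸ Ideal.subset_span ⟨j, rfl⟩)
      have := hf'r (toConv (AlgHom.id k C)) j
      rw [e, map_zero] at this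
      exact this.symm
    have h2 : (⟨x, hx⟩ : P) = 0 := bs.ext_elem fun j => absurd (Subtype.ext (hb0 j)) (bs.ne_zero j)
    exact congrArg Subtype.val h2
  · intro R _ _
    exact (hker _).2 hf'1
  · intro R _ _ x y hx hy
    refine (hker _).2 fun j => ?_
    rw [hf', (hker y).1 hy j]
    simp [(hker x).1 hx]
  · intro R _ _ x hx
    refine (hker _).2 fun j => ?_
    have h0 : ∀ i, ∑ t, x⁻¹.ofConv (f' t) * x.ofConv (m t i) = 0 := fun i => by
      have := hf' x⁻¹ x i
      rw [inv_mul_cancel, hf'1, (hker x).1 hx i, add_zero] at this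
      exact this.symm
    calc x⁻¹.ofConv (f' j) = ∑ t, x⁻¹.ofConv (f' t) * (1 : Pt (k := k) A R).ofConv (m t j) := by
          simp [hm1]
      _ = ∑ i, (∑ t, x⁻¹.ofConv (f' t) * x.ofConv (m t i)) * x⁻¹.ofConv (m i j) := by
          rw [← mul_inv_cancel x]
          simp only [hmmul, Finset.mul_sum, Finset.sum_mul, mul_assoc]
          rw [Finset.sum_comm]
      _ = 0 := by simp [h0]
  · intro K _ _ _ y
    let c : n → K := fun i => -∑ t, y.ofConv (f' t) * y⁻¹.ofConv (m t i)
    obtain ⟨u, hu⟩ := UnipFix15.exists_pt_prim hC (bs.constr k c)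
    have hub : ∀ i, u (b i) = c i := fun i => (hu (bs i)).trans (bs.constr_basis k c i)
    refine ⟨pre E.r (toConv u) * y, (hker _).2 fun j => ?_, ?_⟩
    · rw [hf']
      simp only [hf'r, ofConv_toConv, hub, c, neg_mul, Finset.sum_neg_distrib, Finset.sum_mul, mul_assoc]
      rw [Finset.sum_comm]
      simp only [← Finset.mul_sum, ← hmmul, inv_mul_cancel, hm1, mul_ite, _root_.mul_one, mul_zero,
        Finset.sum_ite_eq', Finset.mem_univ, if_true, neg_add_cancel]
    · rw [map_mul, E.pre_i_pre_r, _root_.one_mul]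

end Ext

end Groth.Agent.Levi15
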