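import Groth.Agent.Lib.Levi15.Alg
import Groth.Agent.Lib.UnipQuot15.CharZero
import Groth.Agent.Lib.UnipFix15.Bridge
import Groth.Agent.Lib.UniStr23.Good
import Groth.Agent.Lib.GITHM15.Group
import Groth.Agent.S0607
import Groth.Agent.S3278

/-!
# Levi subgroups in characteristic zero
-/

set_option autoImplicit false
set_option linter.style.haveILetI false
set_option maxSynthPendingDepth 3
set_option synthInstance.maxHeartbeats 400000
set_option maxHeartbeats 1000000
set_option backward.isDefEq.respectTransparency.types false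

universe u

open CategoryTheory MonoidalCategory CartesianMonoidalCategory MonObj AlgebraicGeometry WithConv
open CoactBr (sp pt)
open scoped TensorProduct

noncomputable section

namespace Groth.Agent.Levi15

variable {k : Type u} [Field k]

/-- An ideal whose zero set is a subgroup is a Hopf ideal. -/
theorem isHopfIdeal_of_subgroup {A : Type u} [CommRing A] [HopfAlgebra k A] (K : Ideal A)
    (h1 : ∀ (R : Type u) [CommRing R] [Algebra k R], K ≤ RingHom.ker (1 : Pt (k := k) A R).ofConv.toRingHom)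
    (hm : ∀ (R : Type u) [CommRing R] [Algebra k R] (x y : Pt (k := k) A R), K ≤ RingHom.ker x.ofConv.toRingHom →
      K ≤ RingHom.ker y.ofConv.toRingHom → K ≤ RingHom.ker (x * y).ofConv.toRingHom)
    (hi : ∀ (R : Type u) [CommRing R] [Algebra k R] (x : Pt (k := k) A R), K ≤ RingHom.ker x.ofConv.toRingHom →
      K ≤ RingHom.ker x⁻¹.ofConv.toRingHom) : K.IsHopfIdeal k := by
  let Q := A ⧸ K
  let mk : A →ₐ[k] Q := Ideal.Quotient.mkₐ k K
  have hmk : ∀ {R : Type u} [CommRing R] [Algebra k R] (g : Q →ₐ[k] R),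
      K ≤ RingHom.ker (toConv (g.comp mk) : Pt (k := k) A R).ofConv.toRingHom := fun g a ha => by
    show g (Ideal.Quotient.mk K a) = 0
    rw [Ideal.Quotient.eq_zero_iff_mem.2 ha, map_zero]
  refine { counit_eq_zero := ?_, map_mkQ_comul_eq_zero := ?_, antipode_mem := ?_ }
  · intro a ha
    have h := h1 k ha
    exact h
  · intro a ha
    let iL : Q →ₐ[k] Q ⊗[k] Q := Algebra.TensorProduct.includeLeft
    let iR : Q →ₐ[k] Q ⊗[k] Q := Algebra.TensorProduct.includeRight
    have h : (toConv (iL.comp mk) * toConv (iR.comp mk) : Pt (k := k) A (Q ⊗[k] Q)) a = 0 :=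
      hm _ _ _ (hmk iL) (hmk iR) ha
    rw [AlgHom.convMul_apply] at h
    refine Eq.trans ?_ h
    generalize CoalgebraStruct.comul (R := k) a = z
    induction z with
    | zero => simp only [map_zero]; rfl
    | add p q hp hq => simp only [map_add, hp, hq]; rfl
    | tmul p q =>
      simp only [ofConv_toConv, Algebra.TensorProduct.lift_tmul]
      show Ideal.Quotient.mk K p ⊗ₜ[k] Ideal.Quotient.mk K q =
        (Ideal.Quotient.mk K p ⊗ₜ[k] (1 : Q)) * ((1 : Q) ⊗ₜ[k] Ideal.Quotient.mk K q)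
      simp
  · intro a ha
    refine Ideal.Quotient.eq_zero_iff_mem.1 ?_
    exact hi Q (toConv mk) (hmk (AlgHom.id k Q)) ha

theorem pt_pre {A B R : Type u} [CommRing A] [HopfAlgebra k A] [CommRing B] [HopfAlgebra k B] [CommRing R]
    [Algebra k R] (φ : A →ₐc[k] B) (x : Pt (k := k) B R) :
    pt (pre φ x).ofConv = pt x.ofConv ≫ pt (φ : A →ₐ[k] B) := CoactBr.pt_comp _ _

theorem pt_one {A R : Type u} [CommRing A] [HopfAlgebra k A] [CommRing R] [Algebra k R] :
    pt (1 : Pt (k := k) A R).ofConv = (1 : sp k R ⟶ sp k A) := (CoactBr.one_eq_pt ..).symm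

/-- A kernel and a compatible section give a semidirect decomposition. -/
theorem isIso_mul_of_section {G U Q L : Over (Spec (CommRingCat.of k))} [GrpObj G] [GrpObj U] [GrpObj Q] [GrpObj L]
    (u : U ⟶ G) [IsMonHom u] [Mono u] (q : G ⟶ Q) [IsMonHom q] (hk : AlgGrp.IsKernel u q) (l : L ⟶ G)
    [IsMonHom l] [IsIso (l ≫ q)] : IsIso ((l ⊗ₘ u) ≫ μ[G]) := by
  haveI : IsMonHom (inv (l ≫ q)) := GITHM15.isMonHom_inv _
  have huq : u ≫ q = 1 := by rw [hk.w]; rfl
  have hker : ∀ (T : Over (Spec (CommRingCat.of k))) (g : T ⟶ G), g ≫ q = 1 → ∃ v : T ⟶ U, v ≫ u = g := fun T g hg =>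
    ⟨hk.lift g (toUnit T) (by rw [hg]; rfl), hk.lift_fst _ _ _⟩
  let p : G ⟶ L := q ≫ inv (l ≫ q)
  obtain ⟨v, hv⟩ := hker G ((p ≫ l)⁻¹ * 𝟙 G) (by
    rw [MonObj.mul_comp, GrpObj.inv_comp]
    simp only [p, Category.assoc, IsIso.inv_hom_id, Category.comp_id, Category.id_comp]
    exact inv_mul_cancel _)
  refine ⟨lift p v, ?_, ?_⟩
  · have hm : (l ⊗ₘ u) ≫ μ[G] = (fst L U ≫ l) * (snd L U ≫ u) := by rw [Hom.mul_def, lift_fst_comp_snd_comp]
    have hp : ((fst L U ≫ l) * (snd L U ≫ u)) ≫ p = fst L U := by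
      rw [← cancel_mono (l ≫ q)]
      simp only [p, Category.assoc, IsIso.inv_hom_id, Category.comp_id]
      rw [MonObj.mul_comp, Category.assoc, Category.assoc, huq, MonObj.comp_one, _root_.mul_one]
    rw [hm, comp_lift]
    refine (congrArg₂ lift hp ?_).trans (lift_fst_snd)
    rw [← cancel_mono u, Category.assoc, hv, MonObj.comp_mul, GrpObj.comp_inv, ← Category.assoc _ p, hp,
      Category.comp_id, inv_mul_cancel_left]
  · rw [← Category.assoc, lift_map, ← Hom.mul_def, hv, mul_inv_cancel_left]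

/-- An extension with trivial kernel is an isomorphism. -/
theorem Ext.surjective_of_trivial {A C H : Type u} [CommRing A] [HopfAlgebra k A] [CommRing C] [HopfAlgebra k C]
    [CommRing H] [HopfAlgebra k H] (E : Ext (k := k) A C H)
    (hC : ∀ c : C, c ∈ Submodule.span k {(1 : C)}) : Function.Surjective E.i := by
  intro a
  refine E.exists_translate_and_invariants.2 a ?_
  rw [rho_eq_mul]
  have e : toConv (Algebra.TensorProduct.includeRight : C →ₐ[k] A ⊗[k] C) = (1 : Pt (k := k) C (A ⊗[k] C)) := by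
    refine congrArg toConv (AlgHom.ext fun c => ?_)
    obtain ⟨t, rfl⟩ := Submodule.mem_span_singleton.1 (hC c)
    show (1 : A) ⊗ₜ[k] (t • (1 : C)) = algebraMap k (A ⊗[k] C) (CoalgebraStruct.counit (t • (1 : C)))
    rw [map_smul, Bialgebra.counit_one, smul_eq_mul, _root_.mul_one, TensorProduct.tmul_smul]
    exact (Algebra.algebraMap_eq_smul_one t).symm
  rw [e, map_one, _root_.mul_one]
  rfl

/-- **Levi subgroups.** -/
theorem exists_levi [CharZero k] (G : Over (Spec (CommRingCat.of k))) [GrpObj G] [IsAffine G.left]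
    [LocallyOfFiniteType G.hom] (U : Over (Spec (CommRingCat.of k))) [GrpObj U] (u : U ⟶ G)
    (hU : Par.IsUnipotentRadical u) :
    ∃ (L : Over (Spec (CommRingCat.of k))) (_ : GrpObj L) (l : L ⟶ G), IsMonHom l ∧ IsClosedImmersion l.left ∧
      IsIso ((l ⊗ₘ u) ≫ μ[G]) := by
  obtain ⟨hum, huc, hun, hus, -, hufib, -⟩ := id hU
  haveI := hum; haveI := huc; haveI := hus
  haveI : Mono u := Over.mono_of_mono_left u
  haveI : IsAffine U.left := isAffine_of_isAffineHom u.left
  haveI : ConnectedSpace U.left :=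
    TorPts21.connectedSpace_of_bc (Red.geomPt (IsLocalRing.closedPoint k)) (hufib _).1
  obtain ⟨Q, _, q, hqm, hQa, hQf, hqfl, hqs, hk⟩ := Groth.Agent.S3278.result k G U u hun
  haveI := hqm; haveI := hQa; haveI := hQf; haveI := hqfl; haveI := hqs
  haveI : Smooth G.hom := Cartier.smooth_of_charZero (K := k) G
  haveI : Smooth Q.hom := Cartier.smooth_of_charZero (K := k) Q
  have huq : u ≫ q = 1 := by rw [hk.w]; rfl
  obtain ⟨H, _, _, eH, _, _, hHft, hH⟩ := UnipQuot15.exists_model_LR_image q hU huq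
  haveI := hHft
  haveI : IsIso eH.left := inferInstanceAs (IsIso ((Over.forget _).map eH))
  haveI : IsMonHom (inv eH) := GITHM15.isMonHom_inv eH
  obtain ⟨l, hl1, hl⟩ := CoalgH23.exists_integral_of_hasFixedLifts (CoalgH23.hasFixedLifts_of_isLinearlyReductive hH)
  haveI hHred : IsReduced H := HopfRedH28.isReduced_of_charZero k H
  -- models
  obtain ⟨B, _, _, ⟨eB⟩⟩ := HopfPts19.exists_model G
  let eG : sp k B ⟶ G := eB.hom.hom.hom
  haveI : IsIso eG := ⟨eB.inv.hom.hom, congrArg (fun q => q.hom.hom) eB.hom_inv_id,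
    congrArg (fun q => q.hom.hom) eB.inv_hom_id⟩
  haveI : IsMonHom eG := eB.hom.hom.isMonHom_hom
  haveI : IsIso eG.left := inferInstanceAs (IsIso ((Over.forget _).map eG))
  haveI : IsMonHom (inv eG) := GITHM15.isMonHom_inv eG
  haveI : Algebra.FiniteType k B := RingHom.finiteType_algebraMap.1
    ((HasRingHomProperty.Spec_iff (P := @LocallyOfFiniteType)).1 (by
      show LocallyOfFiniteType (sp k B).hom
      rw [← Over.w eG]; infer_instance))
  obtain ⟨CU, _, _, ⟨eC⟩⟩ := HopfPts19.exists_model U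
  let eU : sp k CU ⟶ U := eC.hom.hom.hom
  haveI : IsIso eU := ⟨eC.inv.hom.hom, congrArg (fun q => q.hom.hom) eC.hom_inv_id,
    congrArg (fun q => q.hom.hom) eC.inv_hom_id⟩
  haveI : IsMonHom eU := eC.hom.hom.isMonHom_hom
  haveI : IsIso eU.left := inferInstanceAs (IsIso ((Over.forget _).map eU))
  haveI : IsMonHom (inv eU) := GITHM15.isMonHom_inv eU
  haveI : Smooth (sp k CU).hom := by rw [← Over.w eU]; infer_instance
  haveI : Algebra.FiniteType k CU := RingHom.finiteType_algebraMap.1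
    ((HasRingHomProperty.Spec_iff (P := @LocallyOfFiniteType)).1
      (inferInstance : LocallyOfFiniteType (sp k CU).hom))
  haveI : ConnectedSpace ↥(sp k CU).left :=
    (Scheme.homeoOfIso (asIso eU.left)).connectedSpace_iff.2 inferInstance
  have hCU : HopfRep.IsUnipotent k CU := UnipFix15.isUnipotent_model CU fun s => by
    haveI : IsIso ((Over.pullback (Red.geomPt s)).map eU) := Functor.map_isIso _ _
    exact UnipBC21.hasNoSubtorus_of_mono ((Over.pullback (Red.geomPt s)).map eU) (hufib s).2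
  let qm : sp k B ⟶ sp k H := eG ≫ q ≫ inv eH
  -- descending induction
  suffices main : ∀ (I : Ideal B) (A : Type u) [CommRing A] [HopfAlgebra k A] (π : B →ₐc[k] A),
      Function.Surjective π → RingHom.ker (π : B →ₐ[k] A).toRingHom = I →
      Surjective (pt (π : B →ₐ[k] A) ≫ qm).left →
      ∃ (L : Over (Spec (CommRingCat.of k))) (_ : GrpObj L) (l : L ⟶ G), IsMonHom l ∧ IsClosedImmersion l.left ∧
        IsIso ((l ⊗ₘ u) ≫ μ[G]) by
    refine main _ B (BialgHom.id k B) Function.surjective_id rfl ?_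
    have e : pt ((BialgHom.id k B : B →ₐc[k] B) : B →ₐ[k] B) = 𝟙 (sp k B) := CoactBr.pt_id
    rw [e, Category.id_comp]
    haveI : Surjective (eG.left ≫ q.left ≫ (inv eH).left) := by
      haveI : IsIso (inv eH).left := inferInstanceAs (IsIso ((Over.forget _).map (inv eH)))
      infer_instance
    simpa [qm] using this
  intro I
  haveI : IsNoetherianRing B := Algebra.FiniteType.isNoetherianRing k B
  induction I using WellFoundedGT.induction with
  | _ I ih =>
  intro A _ _ π hπ hI hsurj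
  haveI : Algebra.FiniteType k A := Algebra.FiniteType.of_surjective (π : B →ₐ[k] A) hπ
  haveI : IsMonHom (pt (π : B →ₐ[k] A)) := UniStr23.isMonHom_pt π
  haveI hπc : IsClosedImmersion (pt (π : B →ₐ[k] A)).left :=
    IsClosedImmersion.spec_of_surjective (CommRingCat.ofHom (π : B →ₐ[k] A).toRingHom) hπ
  haveI : IsMonHom qm := inferInstance
  obtain ⟨i, hi⟩ := CharExt23.exists_bialgHom (pt (π : B →ₐ[k] A) ≫ qm)
  have hcomap : Function.Surjective (PrimeSpectrum.comap (i : H →ₐ[k] A).toRingHom) := by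
    intro P
    rw [hi] at hsurj
    exact hsurj.surj P
  have hinj : Function.Injective i := by
    refine (injective_iff_map_eq_zero i).2 fun x hx => ?_
    refine IsReduced.eq_zero x ((nilpotent_iff_mem_prime).2 fun P hP => ?_)
    obtain ⟨P', hP'⟩ := hcomap ⟨P, hP⟩
    rw [show P = ((PrimeSpectrum.comap (i : H →ₐ[k] A).toRingHom) P').asIdeal by rw [hP']]
    show i x ∈ P'.asIdeal
    rw [hx]
    exact zero_mem _
  have hflat : RingHom.FaithfullyFlat (i : H →ₐ[k] A).toRingHom := Groth.Agent.S0607.result i hinj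
  -- the kernel
  let K : Ideal A := Ideal.span (Set.range fun h : H => i h - algebraMap k A (CoalgebraStruct.counit h))
  have hK : ∀ {R : Type u} [CommRing R] [Algebra k R] (x : Pt (k := k) A R),
      K ≤ RingHom.ker x.ofConv.toRingHom ↔ pre i x = 1 := by
    intro R _ _ x
    rw [Ideal.span_le, Set.range_subset_iff]
    constructor
    · intro h
      refine congrArg toConv (AlgHom.ext fun a => sub_eq_zero.1 ?_)
      have := h a
      rw [SetLike.mem_coe, RingHom.mem_ker, map_sub] at this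
      rw [← this]
      show x.ofConv (i a) - algebraMap k R (CoalgebraStruct.counit a) =
        x.ofConv (i a) - x.ofConv (algebraMap k A (CoalgebraStruct.counit a))
      rw [AlgHom.commutes]
    · intro h a
      show x.ofConv (i a - algebraMap k A (CoalgebraStruct.counit a)) = 0
      rw [map_sub, AlgHom.commutes, sub_eq_zero]
      exact DFunLike.congr_fun (congrArg ofConv h) a
  haveI : K.IsHopfIdeal k := isHopfIdeal_of_subgroup K
    (fun R _ _ => (hK _).2 (map_one _))
    (fun R _ _ x y hx hy => (hK _).2 (by rw [map_mul, (hK x).1 hx, (hK y).1 hy, _root_.one_mul]))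
    (fun R _ _ x hx => (hK _).2 (by rw [map_inv, (hK x).1 hx, inv_one]))
  let C := A ⧸ K
  let r : A →ₐc[k] C := Bialgebra.Quotient.mkBialgHom (R := k) K
  let E : Ext (k := k) A C H :=
    { r := r, i := i, surj := Ideal.Quotient.mk_surjective
      triv := fun h => by
        show Ideal.Quotient.mk K (i h) = Ideal.Quotient.mk K (algebraMap k A (CoalgebraStruct.counit h))
        exact Ideal.Quotient.eq.2 (Ideal.subset_span ⟨h, rfl⟩)
      lift := fun R _ _ x hx => ⟨toConv (Ideal.Quotient.liftₐ K x.ofConv fun a ha => (hK x).2 hx ha),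
        congrArg toConv (AlgHom.ext fun a => rfl)⟩
      flat := hflat }
  haveI : Algebra.FiniteType k C := Algebra.FiniteType.of_surjective (r : A →ₐ[k] C) E.surj
  have hC : HopfRep.IsUnipotent k C := by
    haveI : IsMonHom (pt (r : A →ₐ[k] C)) := UniStr23.isMonHom_pt r
    let w : sp k C ⟶ G := pt (r : A →ₐ[k] C) ≫ pt (π : B →ₐ[k] A) ≫ eG
    have hw : w ≫ q = 1 := by
      refine (cancel_mono (inv eH)).1 ?_
      rw [MonObj.one_comp]
      simp only [w, Category.assoc]
      rw [show pt (π : B →ₐ[k] A) ≫ eG ≫ q ≫ inv eH = pt (i : H →ₐ[k] A) from hi, ← CoactBr.pt_comp,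
        ← pt_one]
      exact congrArg (fun z : H →ₐ[k] C => pt z) (AlgHom.ext fun h => E.triv h)
    obtain ⟨v, hv⟩ : ∃ v : sp k C ⟶ U, v ≫ u = w := ⟨hk.lift w (toUnit _) (by rw [hw]; rfl), hk.lift_fst _ _ _⟩
    haveI : IsMonHom v := BorelFix21.isMonHom_of_comp u v (hv ▸ inferInstance)
    obtain ⟨g, hg⟩ := CharExt23.exists_bialgHom (v ≫ inv eU)
    obtain ⟨φ, hφ⟩ := CharExt23.exists_bialgHom (eU ≫ u ≫ inv eG)
    refine Unip23.isUnipotent_of_surjective g (fun c => ?_) hCU
    obtain ⟨a, rfl⟩ := E.surj c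
    obtain ⟨b, rfl⟩ := hπ a
    refine ⟨φ b, ?_⟩
    have e : (g : CU →ₐ[k] C).comp (φ : B →ₐ[k] CU) = (r : A →ₐ[k] C).comp (π : B →ₐ[k] A) := by
      refine CoactBr.pt_injective ?_
      rw [CoactBr.pt_comp, CoactBr.pt_comp, ← hg, ← hφ, Category.assoc, IsIso.inv_hom_id_assoc, reassoc_of% hv]
      simp [w]
    exact DFunLike.congr_fun e b
  by_cases hne : ∀ c : C, c ∈ Submodule.span k {(1 : C)}
  · -- a complement
    have hbij : Function.Bijective i := ⟨hinj, Ext.surjective_of_trivial E hne⟩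
    haveI : IsIso (pt (i : H →ₐ[k] A)) := by
      refine ⟨pt (AlgEquiv.ofBijective (i : H →ₐ[k] A) hbij).symm.toAlgHom, ?_, ?_⟩ <;>
        rw [← CoactBr.pt_comp, ← CoactBr.pt_id] <;> congr 1 <;> ext a
      · exact (AlgEquiv.ofBijective (i : H →ₐ[k] A) hbij).apply_symm_apply a
      · exact (AlgEquiv.ofBijective (i : H →ₐ[k] A) hbij).symm_apply_apply a
    haveI : IsMonHom (pt (π : B →ₐ[k] A) ≫ eG) := inferInstance
    haveI : IsIso ((pt (π : B →ₐ[k] A) ≫ eG) ≫ q) := by
      have : (pt (π : B →ₐ[k] A) ≫ eG) ≫ q = pt (i : H →ₐ[k] A) ≫ eH := by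
        rw [← hi]; simp [qm]
      rw [this]; infer_instance
    refine ⟨sp k A, inferInstance, pt (π : B →ₐ[k] A) ≫ eG, inferInstance, ?_, isIso_mul_of_section u q hk _⟩
    rw [Over.comp_left]
    infer_instance
  · obtain ⟨J, hJ0, hJ1, hJm, hJi, hJs⟩ := E.exists_smaller hC hne l hl1 hl
    haveI : J.IsHopfIdeal k := isHopfIdeal_of_subgroup J hJ1 hJm hJi
    let mJ : A →ₐc[k] A ⧸ J := Bialgebra.Quotient.mkBialgHom (R := k) J
    refine ih (RingHom.ker ((mJ.comp π : B →ₐc[k] A ⧸ J) : B →ₐ[k] A ⧸ J).toRingHom) ?_ (A ⧸ J) (mJ.comp π)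
      (Ideal.Quotient.mk_surjective.comp hπ) rfl ⟨fun P => ?_⟩
    · rw [← hI]
      refine lt_of_le_of_ne (fun b hb => ?_) fun h => hJ0 ?_
      · show Ideal.Quotient.mk J (π b) = 0
        rw [show π b = 0 from hb, map_zero]
      · rw [eq_bot_iff]
        intro a ha
        obtain ⟨b, rfl⟩ := hπ a
        have : b ∈ RingHom.ker (π : B →ₐ[k] A).toRingHom := by
          rw [h]
          exact Ideal.Quotient.eq_zero_iff_mem.2 ha
        exact this
    · obtain ⟨P', hP'⟩ := hcomap P
      let F := FractionRing (A ⧸ P'.asIdeal)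
      let Kc := AlgebraicClosure F
      let yA : A →ₐ[k] Kc := (IsScalarTower.toAlgHom k (A ⧸ P'.asIdeal) Kc).comp (Ideal.Quotient.mkₐ k P'.asIdeal)
      obtain ⟨x, hx, hxy⟩ := hJs Kc (toConv yA)
      let wJ : A ⧸ J →ₐ[k] Kc := Ideal.Quotient.liftₐ J x.ofConv fun a ha => hx ha
      refine ⟨⟨RingHom.ker wJ.toRingHom, RingHom.ker_isPrime _⟩, ?_⟩
      have e : pt ((mJ.comp π : B →ₐc[k] A ⧸ J) : B →ₐ[k] A ⧸ J) ≫ qm =
          pt (mJ : A →ₐ[k] A ⧸ J) ≫ pt (i : H →ₐ[k] A) := by
        rw [← hi]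
        conv_rhs => rw [← Category.assoc, ← CoactBr.pt_comp]
        rfl
      rw [e, ← CoactBr.pt_comp]
      refine PrimeSpectrum.ext (Ideal.ext fun h => ?_)
      show wJ (Ideal.Quotient.mk J (i h)) = 0 ↔ h ∈ P.asIdeal
      rw [show wJ (Ideal.Quotient.mk J (i h)) = yA (i h) from DFunLike.congr_fun (congrArg ofConv hxy) h, ← hP']
      show yA (i h) = 0 ↔ i h ∈ P'.asIdeal
      refine Iff.trans ?_ Ideal.Quotient.eq_zero_iff_mem
      show algebraMap (A ⧸ P'.asIdeal) Kc (Ideal.Quotient.mk P'.asIdeal (i h)) = 0 ↔ _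
      rw [IsScalarTower.algebraMap_apply (A ⧸ P'.asIdeal) F Kc, map_eq_zero_iff _ (algebraMap F Kc).injective,
        map_eq_zero_iff _ (IsFractionRing.injective (A ⧸ P'.asIdeal) F)]

end Groth.Agent.Levi15
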